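import Mathlib
import Groth.Prelude.Def_W4stkdualitygroupp2Univ

namespace Groth.Agent.H5.Univ

open MvPolynomial Synt

variable (n d : ℕ)

/-- The quotient ring, with its inferred instances. -/
abbrev Q : Type := MvPolynomial (Fin n) (UnivBase n d) ⧸ univIdeal n d

/-- The zero exponent. -/
def zeroIdx : UnivIdx n d := ⟨fun _ => 0, by simp⟩

lemma zeroIdx_exponent : (zeroIdx n d).exponent = 0 := by
  ext i
  simp [zeroIdx, UnivIdx.exponent]

abbrev I' : Type := {p : Fin n × UnivIdx n d // p.2 ≠ zeroIdx n d}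

abbrev A' : Type := MvPolynomial (I' n d) ℤ

abbrev T : Type := MvPolynomial (Fin n) (A' n d)

instance : Finite (I' n d) := inferInstance

instance : IsRegularRing (T n d) := inferInstance

instance : IsDomain (T n d) := inferInstance

/-- the monomial `x^E` in `T`. -/
noncomputable def mT (E : UnivIdx n d) : T n d := E.exponent.prod fun j k => (X j : T n d) ^ k

noncomputable def g' (i : Fin n) : T n d :=
  ∑ E : UnivIdx n d, if h : E ≠ zeroIdx n d then C (X ⟨(i, E), h⟩) * mT n d E else 0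

noncomputable def α : UnivBase n d →+* T n d :=
  (aeval (R := ℤ) (fun p : Fin n × UnivIdx n d =>
    if h : p.2 ≠ zeroIdx n d then (C (X ⟨p, h⟩) : T n d) else - g' n d p.1)).toRingHom

noncomputable def F₀ : MvPolynomial (Fin n) (UnivBase n d) →+* T n d :=
  eval₂Hom (α n d) (fun j => X j)

lemma α_X (p : Fin n × UnivIdx n d) : α n d (X p) =
    if h : p.2 ≠ zeroIdx n d then (C (X ⟨p, h⟩) : T n d) else - g' n d p.1 := by
  simp [α]

lemma F₀_univPoly (i : Fin n) : F₀ n d (univPoly n d i) = 0 := by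
  rw [univPoly, map_sum]
  have : ∀ E : UnivIdx n d, F₀ n d (monomial E.exponent (X (i, E))) =
      (if h : E ≠ zeroIdx n d then C (X ⟨(i, E), h⟩) * mT n d E else 0) +
        (if E = zeroIdx n d then - g' n d i else 0) := by
    intro E
    rw [F₀, eval₂Hom_monomial, α_X]
    by_cases h : E = zeroIdx n d
    · subst h
      simp [zeroIdx_exponent]
    · simp [h, mT]
  simp_rw [this]
  rw [Finset.sum_add_distrib, Finset.sum_ite_eq' Finset.univ (zeroIdx n d)]
  simp [g']

noncomputable def F : Q n d →+* T n d :=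
  Ideal.Quotient.lift (univIdeal n d) (F₀ n d) (by
    intro x hx
    have : univIdeal n d ≤ RingHom.ker (F₀ n d) := by
      rw [univIdeal, Ideal.span_le]
      rintro _ ⟨i, rfl⟩
      exact F₀_univPoly n d i
    exact this hx)

noncomputable def β : A' n d →+* UnivBase n d := (rename (R := ℤ) Subtype.val).toRingHom

noncomputable def mkQ : MvPolynomial (Fin n) (UnivBase n d) →+* Q n d :=
  Ideal.Quotient.mk (univIdeal n d)

noncomputable def G₀ : T n d →+* Q n d :=
  eval₂Hom ((mkQ n d).comp (C.comp (β n d))) (fun j => mkQ n d (X j))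


lemma F_mkQ (x) : F n d (mkQ n d x) = F₀ n d x := by
  simp [F, mkQ]

lemma F₀_C_X (p : Fin n × UnivIdx n d) (h : p.2 ≠ zeroIdx n d) :
    F₀ n d (C (X p)) = C (X ⟨p, h⟩) := by
  rw [F₀, eval₂Hom_C, α_X, dif_pos h]

lemma F_comp_G₀ : (F n d).comp (G₀ n d) = RingHom.id _ := by
  refine MvPolynomial.ringHom_ext' ?_ ?_
  · refine MvPolynomial.ringHom_ext' (RingHom.ext_int _ _) ?_
    rintro ⟨p, hp⟩
    simp only [RingHom.comp_apply, RingHom.id_apply, G₀, eval₂Hom_C, β, AlgHom.toRingHom_eq_coe,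
      RingHom.coe_coe, rename_X, F_mkQ]
    exact F₀_C_X n d p hp
  · intro j
    simp only [RingHom.comp_apply, RingHom.id_apply, G₀, eval₂Hom_X', F_mkQ]
    simp [F₀]


lemma mkQ_univPoly (i : Fin n) : mkQ n d (univPoly n d i) = 0 :=
  Ideal.Quotient.eq_zero_iff_mem.mpr (Ideal.subset_span ⟨i, rfl⟩)

lemma G₀_C_X (p : Fin n × UnivIdx n d) (h : p.2 ≠ zeroIdx n d) :
    G₀ n d (C (X ⟨p, h⟩)) = mkQ n d (C (X p)) := by
  simp [G₀, β]

lemma G₀_mT (E : UnivIdx n d) :
    G₀ n d (mT n d E) = mkQ n d (E.exponent.prod fun j k => X j ^ k) := by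
  simp [mT, G₀]

lemma G₀_g' (i : Fin n) : G₀ n d (g' n d i) = - mkQ n d (C (X (i, zeroIdx n d))) := by
  have h1 := mkQ_univPoly n d i
  rw [univPoly, map_sum] at h1
  have h2 : ∀ E : UnivIdx n d, mkQ n d (monomial E.exponent (X (i, E))) =
      G₀ n d (if h : E ≠ zeroIdx n d then C (X ⟨(i, E), h⟩) * mT n d E else 0) +
        (if E = zeroIdx n d then mkQ n d (C (X (i, zeroIdx n d))) else 0) := by
    intro E
    by_cases h : E = zeroIdx n d
    · subst h
      simp [zeroIdx_exponent]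
    · rw [dif_pos h, if_neg h, add_zero, map_mul, G₀_C_X, G₀_mT, ← map_mul, monomial_eq]
  simp_rw [h2] at h1
  rw [Finset.sum_add_distrib, Finset.sum_ite_eq' Finset.univ (zeroIdx n d), ← map_sum] at h1
  simp only [Finset.mem_univ, if_true] at h1
  rw [g']
  exact eq_neg_of_add_eq_zero_left h1

lemma G₀_comp_F₀ : (G₀ n d).comp (F₀ n d) = mkQ n d := by
  refine MvPolynomial.ringHom_ext' ?_ ?_
  · refine MvPolynomial.ringHom_ext' (RingHom.ext_int _ _) ?_
    intro p
    simp only [RingHom.comp_apply]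
    by_cases h : p.2 = zeroIdx n d
    · obtain ⟨i, E⟩ := p
      simp only at h
      subst h
      rw [F₀, eval₂Hom_C, α_X, dif_neg (by simp), map_neg, G₀_g', neg_neg]
    · rw [F₀_C_X n d p h, G₀_C_X]
  · intro j
    simp [F₀, G₀]

lemma G₀_comp_F : (G₀ n d).comp (F n d) = RingHom.id _ := by
  refine Ideal.Quotient.ringHom_ext (RingHom.ext fun x => ?_)
  change G₀ n d (F n d (mkQ n d x)) = mkQ n d x
  rw [F_mkQ, ← G₀_comp_F₀]
  rfl

/-- `B` is a polynomial ring over `ℤ`. -/
noncomputable def equivT : Q n d ≃+* T n d :=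
  RingEquiv.ofRingHom (F n d) (G₀ n d) (F_comp_G₀ n d) (G₀_comp_F n d)

theorem isDomain_Q : IsDomain (Q n d) := (equivT n d).toMulEquiv.isDomain (T n d)

theorem isRegularRing_Q : IsRegularRing (Q n d) := IsRegularRing.of_ringEquiv (equivT n d).symm


theorem main8972 (n d : ℕ) : IsDomain (Synt.UnivAlg n d) ∧
    ∀ q : PrimeSpectrum (Synt.UnivAlg n d), IsRegularLocalRing (Localization.AtPrime q.asIdeal) := by
  refine ⟨isDomain_Q n d, fun q => ?_⟩
  haveI : IsRegularRing (Synt.UnivAlg n d) := isRegularRing_Q n d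
  infer_instance

end Groth.Agent.H5.Univ
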