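import Mathlib

namespace Groth.Agent.H5.UnivB

open MvPolynomial Algebra

universe u

/-- Jacobian criterion for étaleness of a square presentation: at a prime not containing the
Jacobian determinant, `R[x_1..x_n]/(v_1..v_n)` is étale over `R`. -/
theorem formallyEtale_localization_of_jacobian_notMem {R : Type u} [CommRing R] (n : ℕ)
    (v : Fin n → MvPolynomial (Fin n) R)
    (q : Ideal (MvPolynomial (Fin n) R ⧸ Ideal.span (Set.range v))) [q.IsPrime]
    (hq : Ideal.Quotient.mk (Ideal.span (Set.range v))
      (Matrix.det (Matrix.of fun i j => pderiv i (v j))) ∉ q) :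
    Algebra.FormallyEtale R (Localization.AtPrime q) := by
  classical
  let S := MvPolynomial (Fin n) R ⧸ Ideal.span (Set.range v)
  let P0 : PreSubmersivePresentation R S (Fin n) (Fin n) :=
    PreSubmersivePresentation.naive (v := v) id Function.injective_id
  have hJ : P0.jacobian = Ideal.Quotient.mk (Ideal.span (Set.range v))
      (Matrix.det (Matrix.of fun i j => pderiv i (v j))) := by
    rw [PreSubmersivePresentation.jacobian_eq_jacobiMatrix_det]
    have : P0.jacobiMatrix = Matrix.of fun i j => pderiv i (v j) := by
      refine Matrix.ext fun i j => ?_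
      exact PreSubmersivePresentation.jacobiMatrix_naive (R := R) (v := v) id
        Function.injective_id _ _ i j
    rw [this]
    rfl
  set J := P0.jacobian with hJdef
  let L := Localization.Away J
  let Q1 : SubmersivePresentation S L Unit Unit := SubmersivePresentation.localizationAway L J
  let P1 : SubmersivePresentation R L (Unit ⊕ Fin n) (Unit ⊕ Fin n) :=
    { toPreSubmersivePresentation := Q1.toPreSubmersivePresentation.comp P0
      jacobian_isUnit := by
        rw [PreSubmersivePresentation.comp_jacobian_eq_jacobian_smul_jacobian, Algebra.smul_def,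
          IsUnit.mul_iff]
        exact ⟨IsLocalization.map_units L (⟨J, 1, by simp⟩ : Submonoid.powers J),
          Q1.jacobian_isUnit⟩ }
  have hdim : P1.dimension = 0 := by
    simp [Presentation.dimension]
  haveI : IsStandardSmoothOfRelativeDimension 0 R L :=
    P1.isStandardSmoothOfRelativeDimension hdim
  haveI : Algebra.Etale R L := inferInstance
  have hsub : (↑(PrimeSpectrum.basicOpen J) : Set (PrimeSpectrum S)) ⊆ etaleLocus R S :=
    basicOpen_subset_etaleLocus_iff.mpr inferInstance
  have hmem : (⟨q, inferInstance⟩ : PrimeSpectrum S) ∈ PrimeSpectrum.basicOpen J := by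
    rw [PrimeSpectrum.mem_basicOpen, hJ]
    exact hq
  exact hsub hmem

end Groth.Agent.H5.UnivB
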