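import Mathlib
import Groth.Prelude.Def_W4stkdualitygroupp2Univ
import Groth.Agent.Lib.Helper5.Univ.B

namespace Groth.Agent.H5.UnivC

open MvPolynomial Synt

variable (n d : ℕ)

/-- The unit exponent vector `e_i`. -/
def unitIdx (hd : 1 ≤ d) (i : Fin n) : UnivIdx n d :=
  ⟨fun j => if j = i then ⟨1, by omega⟩ else 0, by
    have : ∀ j : Fin n, (((if j = i then (⟨1, by omega⟩ : Fin (d + 1)) else 0) : Fin (d + 1)) : ℕ) =
        if j = i then 1 else 0 := by
      intro j
      split_ifs <;> simp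
    simp_rw [this]
    simp [hd]⟩

lemma unitIdx_exponent (hd : 1 ≤ d) (i : Fin n) :
    (unitIdx n d hd i).exponent = Finsupp.single i 1 := by
  ext j
  by_cases h : j = i
  · subst h; simp [UnivIdx.exponent, unitIdx]
  · simp [UnivIdx.exponent, unitIdx, h]

noncomputable def ψ (hd : 1 ≤ d) : UnivBase n d →+* ℤ :=
  (aeval (R := ℤ) (fun p : Fin n × UnivIdx n d =>
    if p.2 = unitIdx n d hd p.1 then (1 : ℤ) else 0)).toRingHom

lemma ψ_X (hd : 1 ≤ d) (p : Fin n × UnivIdx n d) :
    ψ n d hd (X p) = if p.2 = unitIdx n d hd p.1 then (1 : ℤ) else 0 := by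
  simp [ψ]

noncomputable def φ₀ (hd : 1 ≤ d) : MvPolynomial (Fin n) (UnivBase n d) →+* ℤ :=
  eval₂Hom (ψ n d hd) (fun _ => 0)

lemma prod_zero_pow (s : Fin n →₀ ℕ) :
    (s.prod fun _ k => (0 : ℤ) ^ k) = if s = 0 then 1 else 0 := by
  split_ifs with h
  · subst h; simp
  · obtain ⟨i, hi⟩ : ∃ i, s i ≠ 0 := by
      by_contra hcon
      push Not at hcon
      exact h (Finsupp.ext hcon)
    rw [Finsupp.prod]
    exact Finset.prod_eq_zero (Finsupp.mem_support_iff.mpr hi) (zero_pow hi)

lemma φ₀_monomial (hd : 1 ≤ d) (s : Fin n →₀ ℕ) (a : UnivBase n d) :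
    φ₀ n d hd (monomial s a) = ψ n d hd a * if s = 0 then 1 else 0 := by
  rw [φ₀, eval₂Hom_monomial, prod_zero_pow]

lemma φ₀_univPoly (hd : 1 ≤ d) (i : Fin n) : φ₀ n d hd (univPoly n d i) = 0 := by
  rw [univPoly, map_sum]
  refine Finset.sum_eq_zero fun E _ => ?_
  rw [φ₀_monomial, ψ_X]
  by_cases h : E = unitIdx n d hd i
  · subst h
    rw [unitIdx_exponent]
    simp
  · simp [h]

lemma φ₀_pderiv (hd : 1 ≤ d) (i j : Fin n) :
    φ₀ n d hd (pderiv i (univPoly n d j)) = if i = j then 1 else 0 := by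
  rw [univPoly, map_sum, map_sum]
  rw [Finset.sum_eq_single (unitIdx n d hd j)]
  · rw [pderiv_monomial, φ₀_monomial, unitIdx_exponent, map_mul, ψ_X]
    by_cases h : i = j
    · subst h
      simp
    · simp [h]
  · intro E _ hE
    rw [pderiv_monomial, φ₀_monomial, map_mul, ψ_X]
    simp [hE]
  · intro h
    exact absurd (Finset.mem_univ _) h

lemma φ₀_det (hd : 1 ≤ d) :
    φ₀ n d hd (Matrix.det (Matrix.of fun i j => pderiv i (univPoly n d j))) = 1 := by
  rw [RingHom.map_det]
  have : (φ₀ n d hd).mapMatrix (Matrix.of fun i j => pderiv i (univPoly n d j)) = 1 := by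
    refine Matrix.ext fun i j => ?_
    simp only [RingHom.mapMatrix_apply, Matrix.map_apply, Matrix.of_apply, φ₀_pderiv,
      Matrix.one_apply]
  rw [this, Matrix.det_one]

/-- The point of `Spec B`. -/
noncomputable def φ (hd : 1 ≤ d) :
    (MvPolynomial (Fin n) (UnivBase n d) ⧸ univIdeal n d) →+* ℤ :=
  Ideal.Quotient.lift (univIdeal n d) (φ₀ n d hd) (by
    intro x hx
    have : univIdeal n d ≤ RingHom.ker (φ₀ n d hd) := by
      rw [univIdeal, Ideal.span_le]
      rintro _ ⟨i, rfl⟩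
      exact φ₀_univPoly n d hd i
    exact this hx)

theorem main8973 (n d : ℕ) (hd : 1 ≤ d) : ∃ q : PrimeSpectrum (Synt.UnivAlg n d),
    Algebra.QuasiFiniteAt (Synt.UnivBase n d) q.asIdeal ∧
      Algebra.IsEtaleAt (Synt.UnivBase n d) q.asIdeal := by
  let φ' : Synt.UnivAlg n d →+* ℤ := φ n d hd
  let q : Ideal (Synt.UnivAlg n d) := RingHom.ker φ'
  haveI hqp : q.IsPrime := RingHom.ker_isPrime _
  have hq : Ideal.Quotient.mk (Ideal.span (Set.range (univPoly n d)))
      (Matrix.det (Matrix.of fun i j => pderiv i (univPoly n d j))) ∉ q := by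
    intro hmem
    have hmem' : φ n d hd (Ideal.Quotient.mk (univIdeal n d)
      (Matrix.det (Matrix.of fun i j => pderiv i (univPoly n d j)))) = 0 := hmem
    have h1 : φ n d hd (Ideal.Quotient.mk (univIdeal n d)
      (Matrix.det (Matrix.of fun i j => pderiv i (univPoly n d j)))) = 1 := by
      rw [φ, Ideal.Quotient.lift_mk, φ₀_det]
    rw [h1] at hmem'
    exact one_ne_zero hmem'
  have het : Algebra.FormallyEtale (UnivBase n d) (Localization.AtPrime q) :=
    @UnivB.formallyEtale_localization_of_jacobian_notMem _ _ n (univPoly n d) q hqp hq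
  refine ⟨⟨q, hqp⟩, ?_, het⟩
  haveI : Algebra.FiniteType (UnivBase n d) (Synt.UnivAlg n d) :=
    (inferInstance : Algebra.FiniteType (UnivBase n d)
      (MvPolynomial (Fin n) (UnivBase n d) ⧸ univIdeal n d))
  haveI : Algebra.FormallyUnramified (UnivBase n d) (Localization.AtPrime q) :=
    inferInstance
  have : Algebra.QuasiFinite (UnivBase n d) (Localization.AtPrime q) := inferInstance
  exact this

end Groth.Agent.H5.UnivC
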